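import Cfsg.Agent.TH.Cl.Br.Tr
import Cfsg.Agent.AutOrth.Final
import Cfsg.Agent.ClassicalGeometry.OrthSemiForms
import Cfsg.Agent.ClassicalGeometry.SympAutOddA
import Cfsg.Agent.ClassicalGeometry.SympAutExists

/-!
# S3541, classical socles: the bridge (helper60)

`ctx_L`, `ctx_U`, `ctx_Sp`, `ctx_O` : the models of the four kinds; `boxBridge : BoxBridge`.
-/

set_option autoImplicit false

namespace Cfsg.Agent.TH.Cl

open Subgroup Cfsg.Agent.DS.Cl Cfsg.Agent.DS.Cl.Fwd Cfsg.Agent.SB.Br Module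

namespace Br

theorem cast_EB {K V : Type} [Field K] [AddCommGroup V] [Module K V] (h : HF K V) (p : ℕ) [CharP K p] :
    (p : h.EB) = 0 := h.ap_ext fun v => by
  change (p : Module.End K V) v = 0
  rw [Module.End.natCast_apply, ← Nat.cast_smul_eq_nsmul K, CharP.cast_eq_zero, zero_smul]

theorem cast_LR (K : Type) [Field K] (n p : ℕ) [CharP K p] : (p : LR (Fin n) K) = 0 := by
  have h1 : (p : Matrix (Fin n) (Fin n) K) = 0 := by
    ext i j
    rw [Matrix.natCast_apply, Nat.cast_ite, CharP.cast_eq_zero, Nat.cast_zero, ite_self, Matrix.zero_apply]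
  exact Prod.ext h1 h1

variable {G : Type} [Group G] {T H : Subgroup G} {m p : ℕ} (hK : AllK) (c : LieCtx T H m p) (o : ¬ HasOwn p H)
include hK c o

theorem ctx_L {F : Type} [Field F] [Fintype F] [CharP F p] {n : ℕ} (hn : 3 ≤ n)
    (e : T ≃* Matrix.ProjectiveSpecialLinearGroup (Fin n) F) :
    ∃ (R : FR (LR (Fin n) F)) (G' H' : Subgroup (RingAut (LR (Fin n) F))), KL R ∧ Ctx R G' H' m p := by
  obtain ⟨R, hR⟩ := modL F n (by omega) (by omega)
  obtain ⟨h1, G', H', h2⟩ := exists_ctx hK c o e hR (fun _ => trivial) (SB.Cl.cent_LR hn R) (cast_LR F n p)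
  exact ⟨R, G', H', ⟨hn, h1⟩, h2⟩

open Cfsg.Agent.LieClassical.HermBasic in
theorem ctx_U {F : Type} [Field F] [Fintype F] [CharP F p] {n q : ℕ} (hF : Fintype.card F = q ^ 2) (hn : 3 ≤ n)
    (h32 : ¬ (n = 3 ∧ q = 2)) (e : T ≃* PSU n F q) :
    ∃ (R : FR (unH n hF).EB) (G' H' : Subgroup (RingAut (unH n hF).EB)), KU (unH n hF) R q ∧ Ctx R G' H' m p := by
  obtain ⟨R, hRL, hR⟩ := modU F n q hF hn h32
  obtain ⟨h1, G', H', h2⟩ := exists_ctx hK c o e hR (fun _ => trivial) (cent_U hF hn R hRL) (cast_EB _ p)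
  refine ⟨R, G', H', ⟨⟨rfl, exists_not_fixed hF⟩, hRL, hF, ?_, ?_, ?_⟩, h2⟩ <;> rwa [Module.finrank_fin_fun]

open Cfsg.Agent.ClassicalGeometry.SympBasic in
theorem ctx_Sp {F : Type} [Field F] [Fintype F] [CharP F p] {k : ℕ} (hk : 2 ≤ k) (hk2 : k = 2 → 3 ≤ Fintype.card F)
    (e : T ≃* PSp k F) (hΓ : ∀ g, ind c.as.normal e g ∈ (ClassicalGeometry.SympAutSemi.Psi k F).range) :
    ∃ (R : FR (spH k F).EB) (G' H' : Subgroup (RingAut (spH k F).EB)), KSp (spH k F) R k ∧ Ctx R G' H' m p := by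
  obtain ⟨R, hRL, hR⟩ := modSp F k hk hk2
  have h0 : finrank F (Fin k ⊕ Fin k → F) = 2 * k := by
    rw [Module.finrank_fintype_fun_eq_card, Fintype.card_sum, Fintype.card_fin, two_mul]
  obtain ⟨h1, G', H', h2⟩ := exists_ctx hK c o e hR hΓ (fun a b c => SB.Cl.cent_HF (spH k F) R a b c
    (e₁ := Pi.single (Sum.inl ⟨0, by omega⟩) 1) (e₂ := Pi.single (Sum.inl ⟨1, by omega⟩) 1)
    (f₂ := Pi.single (Sum.inr ⟨1, by omega⟩) 1) (by simp) (sympForm_self _) (sympForm_self _) (sympForm_self _)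
    ((sympForm_single_inl_right _ _).trans (by simp)) ((sympForm_single_inr_right _ _).trans (by simp))
    (by
      change sympForm k F _ _ ≠ 0
      rw [sympForm_single_inl_right]
      simp) (Or.inl hRL)) (cast_EB _ p)
  exact ⟨R, G', H', ⟨⟨fun _ => rfl, sympForm_self, hRL⟩, h0, hk, hk2, h1⟩, h2⟩

open Cfsg.Agent.LieClassical.OrthCore Cfsg.Agent.ClassicalGeometry.OrthSemi QuadraticMap
  Cfsg.Agent.ClassicalGeometry.OrthSemiForms in
theorem ctx_O {F ι : Type} [Field F] [Fintype F] [CharP F p] [Fintype ι] [DecidableEq ι]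
    {Q : QuadraticForm F (ι → F)} (hG : LieClassical.OrthTrans.Good Q) {f : (ι → F) → F} (hf : ⇑Q = f)
    (e : T ≃* POmega F f)
    (hΓ : ∀ (e' : T ≃* ↥(E Q) ⧸ center ↥(E Q)) g, ind c.as.normal e' g ∈ (Psi Q).range) :
    ∃ (R : FR (orH Q hG.nondeg).EB) (G' H' : Subgroup (RingAut (orH Q hG.nondeg).EB)),
      SB.Cl.IsO (orH Q hG.nondeg) R Q ∧ Nonempty (R.S ≃* POmega F f) ∧ Ctx R G' H' m p := by
  subst hf
  obtain ⟨R, hRL, hl, hR⟩ := modO F _ Q hG
  obtain ⟨x, y, hxy⟩ := hG.exists_hyp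
  obtain ⟨z, w, hzw, h1, h2, -, -⟩ := hG.exists_hyp2 hxy
  have h3 : ∀ v, Q v = 0 → polar Q v v = 0 := fun v hv => by rw [polar_self, hv, smul_zero]
  obtain ⟨⟨e'⟩, G', H', h4⟩ := exists_ctx hK c o (e.trans (pomegaEquiv hG)) hR (hΓ _)
    (fun a b c => SB.Cl.cent_HF (orH Q hG.nondeg) R a b c (e₁ := x) (e₂ := z) (f₂ := w)
      hxy.left_ne (h3 x hxy.left) (h3 z hzw.left) (h3 w hzw.right) h1 h2
      (by change polar Q w z ≠ 0; rw [hzw.pair']; exact one_ne_zero)
      (Or.inr ⟨(hl x).trans hxy.left, (hl z).trans hzw.left, (hl w).trans hzw.right⟩)) (cast_EB _ p)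
  exact ⟨R, G', H', ⟨fun _ => rfl, fun _ _ => rfl, hRL, hl⟩, ⟨e'.trans (pomegaEquiv hG).symm⟩, h4⟩

open Cfsg.Agent.LieClassical.OrthCore Cfsg.Agent.ClassicalGeometry.OrthSemi Cfsg.Agent.LieClassical.OrthForms
  Cfsg.Agent.ClassicalGeometry.OrthSemiForms in
/-- plus type, when all the induced automorphisms are semilinear (also for `k = 4`) -/
theorem no_plus (hO : NoO fun _ _ _ _ _ _ => True) {F : Type} [Field F] [Fintype F] [CharP F p] {k : ℕ} (hk : 4 ≤ k)
    (e : T ≃* POmega F (quadFormPlus k F))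
    (hΓ : ∀ (e' : T ≃* ↥(E (plusForm k F)) ⧸ center ↥(E (plusForm k F))) g,
      ind c.as.normal e' g ∈ (Psi (plusForm k F)).range) : False := by
  have hG : LieClassical.OrthTrans.Good (plusForm k F) := good_plus (by omega)
  obtain ⟨R, G', H', h1, h2, h3⟩ := ctx_O hK c o hG (coe_plusForm _ _) e hΓ
  have h0 : finrank F (Fin k ⊕ Fin k → F) = 2 * k := by
    rw [Module.finrank_fintype_fun_eq_card, Fintype.card_sum, Fintype.card_fin, two_mul]
  exact hO F _ _ R _ G' H' m p ⟨h1, by omega, Or.inr (Or.inl ⟨k, h0, h2, LinearEquiv.refl _ _,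
    fun v => congrFun (coe_plusForm k F) v⟩)⟩ h3 trivial

end Br

open Br Cfsg.Agent.LieClassical.OrthForms Cfsg.Agent.ClassicalGeometry.OrthSemiForms in
/-- **the bridge** -/
theorem boxBridge : BoxBridge := by
  intro hM hB hD hK G _ _ T H m p c o hP
  rcases hP with ⟨F, _, _, _, n, hn, hn2, ⟨e⟩⟩ | ⟨F, _, _, _, k, hk, hk2, ⟨e⟩⟩ | ⟨F, _, _, _, n, q, hF, hn, h32, ⟨e⟩⟩ |
    ⟨F, _, _, _, k, hk, hq, ⟨e⟩⟩ | ⟨F, _, _, _, k, hk, ⟨e⟩⟩ | ⟨F, _, _, _, k, a, b, hk, hab, ⟨e⟩⟩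
  · by_cases h2 : n = 2
    · subst h2
      exact c.notL2 ⟨F, _, _, hn2 rfl, ⟨e⟩⟩
    obtain ⟨R, G', H', h1, h3⟩ := ctx_L hK c o (by omega) e
    exact hM.l F n R G' H' m p h1 h3 trivial
  · by_cases h6 : ∀ g, ind c.as.normal e g ∈ (ClassicalGeometry.SympAutSemi.Psi k F).range
    · obtain ⟨R, G', H', h1, h3⟩ := ctx_Sp hK c o hk hk2 e h6
      exact hM.sp F _ _ R k G' H' m p h1 h3 trivial
    have h7 : k = 2 ∧ (2 : F) = 0 := by
      by_contra h7
      refine h6 fun g => ClassicalGeometry.SympAutExists.exists_semi hk _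
        (ClassicalGeometry.SympAutOddA.recog hk ?_ _)
      by_cases h : k = 2
      · exact Or.inr fun h2 => h7 ⟨h, h2⟩
      · left
        omega
    obtain ⟨rfl, h7⟩ := h7
    obtain rfl : 2 = p := (Nat.prime_dvd_prime_iff_eq c.prime Nat.prime_two).1
      ((CharP.cast_eq_zero_iff F p 2).1 (by exact_mod_cast h7)) |>.symm
    have h8 := FiniteField.even_card_of_char_two (ringChar.eq F 2)
    have h9 := hk2 rfl
    exact hB hK G T H m c F e o (by omega) (not_forall.1 h6)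
  · obtain ⟨R, G', H', h1, h3⟩ := ctx_U hK c o hF hn h32 e
    exact hM.u F _ _ R q G' H' m p h1 h3 trivial
  · have h4 : (2 : F) ≠ 0 := by
      intro h4
      obtain rfl : 2 = p := (Nat.prime_dvd_prime_iff_eq c.prime Nat.prime_two).1
        ((CharP.cast_eq_zero_iff F p 2).1 (by exact_mod_cast h4)) |>.symm
      have h6 := FiniteField.even_card_of_char_two (ringChar.eq F 2)
      obtain ⟨j, hj⟩ := hq
      omega
    have hG : LieClassical.OrthTrans.Good (oddForm k F) := good_odd (by omega) h4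
    obtain ⟨R, G', H', h1, h2, h3⟩ := ctx_O hK c o hG (coe_oddForm _ _) e
      fun _ _ => AutOrth.Final.surjective_odd hk h4 _
    have h0 : finrank F (Unit ⊕ (Fin k ⊕ Fin k) → F) = 2 * k + 1 := by
      rw [Module.finrank_fintype_fun_eq_card, Fintype.card_sum, Fintype.card_sum, Fintype.card_fin, Fintype.card_unit]
      omega
    exact hM.o F _ _ R _ G' H' m p ⟨h1, by omega, Or.inl ⟨k, h0, hq, h2, LinearEquiv.refl _ _,
      fun v => congrFun (coe_oddForm k F) v⟩⟩ h3 trivial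
  · by_cases h4 : k = 4
    · subst h4
      exact hD hM.o hK G T H m p c o ⟨F, _, inferInstance, inferInstance, ⟨e⟩⟩
    exact no_plus hK c o hM.o hk e fun _ _ => AutOrth.Final.surjective_plus (by omega) _
  · have hG : LieClassical.OrthTrans.Good (minusForm (k - 1) F a b) := good_minus (by omega) a b hab
    obtain ⟨R, G', H', h1, h2, h3⟩ := ctx_O hK c o hG (coe_minusForm _ _ a b) e
      fun _ _ => AutOrth.Final.surjective_minus (by omega) hab _
    have h0 : finrank F ((Fin (k - 1) ⊕ Fin (k - 1)) ⊕ Fin 2 → F) = 2 * k := by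
      rw [Module.finrank_fintype_fun_eq_card, Fintype.card_sum, Fintype.card_sum, Fintype.card_fin, Fintype.card_fin]
      omega
    exact hM.o F _ _ R _ G' H' m p ⟨h1, by omega, Or.inr (Or.inr ⟨k, a, b, h0, hab, h2, LinearEquiv.refl _ _,
      fun v => congrFun (coe_minusForm (k - 1) F a b) v⟩)⟩ h3 trivial

end Cfsg.Agent.TH.Cl
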