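import Cfsg.Agent.TH.Cl.Basic
import Cfsg.Agent.SB.Br.Mod
import Cfsg.Agent.CpQuot.Congr

/-!
# S3541, classical socles: transport to the form rings (helper60)

* `lieCtx_map`, `hasOwn_of_map` : invariance of the standing hypotheses under isomorphisms;
* `exists_ctx` : from a model `ModE F X Γ` of the socle to `Ctx F G' H' m p`;
* `cent_U` : the centraliser of `F.S` in `F.Aut` is trivial for the unitary groups of dimension at least three.
-/

set_option autoImplicit false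

namespace Cfsg.Agent.TH.Cl.Br

open Subgroup Cfsg.Agent.DS.Cl Cfsg.Agent.DS.Cl.Fwd Cfsg.Agent.SB.Br

section groups

variable {G G' : Type*} [Group G] [Group G'] {T H : Subgroup G} {m p : ℕ}

theorem lieCtx_map (c : LieCtx T H m p) (e : G ≃* G') : LieCtx (T.map e.toMonoidHom) (H.map e.toMonoidHom) m p where
  as := c.as.map e
  half := c.half.map e
  prime := c.prime
  lie := (CpQuot.Congr.isLieTypeChar_iff (e.subgroupMap T) p).1 c.lie
  notL2 := fun ⟨F, i1, i2, h, ⟨f⟩⟩ => c.notL2 ⟨F, i1, i2, h, ⟨(e.subgroupMap T).trans f⟩⟩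
  notAlt := fun ⟨n, h, ⟨f⟩⟩ => c.notAlt ⟨n, h, ⟨(e.subgroupMap T).trans f⟩⟩

theorem hasOwn_of_equiv {H' : Subgroup G'} (e : H' ≃* H) (h : HasOwn p H') : HasOwn p H := by
  obtain ⟨E, ⟨h1, h2⟩, h3⟩ := h
  exact ⟨E.map e.toMonoidHom, ⟨h1.map e.surjective, (CpQuot.Congr.isQuasisimple_iff (e.subgroupMap E)).1 h2⟩,
    (CpQuot.Congr.isLieTypeChar_iff (CpQuot.Congr.cq (e.subgroupMap E)) p).1 h3⟩

theorem hasOwn_of_map (e : G ≃* G') (h : HasOwn p (H.map e.toMonoidHom)) : HasOwn p H :=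
  hasOwn_of_equiv (e.subgroupMap H).symm h

end groups

section transport

variable {A : Type} [Ring A] [StarRing A]

/-- **transport** from the abstract group to the form ring -/
theorem exists_ctx {F : FR A} {G : Type} [Group G] {T H : Subgroup G} {m p : ℕ} (hK : AllK) (c : LieCtx T H m p)
    (o : ¬ HasOwn p H) {X : Type} [Group X] (e₀ : T ≃* X) {Γ : Set (MulAut X)} (hmod : ModE F X Γ)
    (hΓ : ∀ g, ind c.as.normal e₀ g ∈ Γ)
    (hcent : F.Span → IsSimpleGroup F.S → ¬ IsMulCommutative F.S → ∀ γ ∈ F.Aut, (∀ s ∈ F.S, γ * s = s * γ) → γ = 1)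
    (hp : (p : A) = 0) : Nonempty (F.S ≃* X) ∧ ∃ G' H', Ctx F G' H' m p := by
  obtain ⟨hss, hspan, e, hΓ'⟩ := hmod
  have hT := c.as.normal
  have hTs := c.as.simple
  have hsimple : IsSimpleGroup F.S := (e.trans e₀.symm).isSimpleGroup
  have hnc : ¬ IsMulCommutative F.S := fun h => c.as.nonab ⟨⟨fun a b => (e₀.trans e.symm).injective (by
    rw [map_mul, map_mul, h.1.1])⟩⟩
  have hle : F.Aut ≤ normalizer (F.S : Set (RingAut A)) := fun γ hγ => by
    rw [mem_normalizer_iff]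
    refine fun s => ⟨FR.conj_mem_S hγ, fun h => ?_⟩
    have h1 := FR.conj_mem_S (inv_mem hγ) h
    simpa [mul_assoc] using h1
  let θ : F.Aut →* MulAut X :=
    (MulAut.congr e).toMonoidHom.comp (F.S.normalizerMonoidHom.comp (inclusion hle))
  have hθ : ∀ (γ : F.Aut) (s t : F.S), (t : RingAut A) = γ * s * (γ : RingAut A)⁻¹ → θ γ (e s) = e t := by
    intro γ s t h
    change e (F.S.normalizerMonoidHom (inclusion hle γ) (e.symm (e s))) = e t
    rw [e.symm_apply_apply]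
    exact congrArg e (Subtype.ext h.symm)
  have hinj : Function.Injective θ := by
    rw [injective_iff_map_eq_one]
    intro γ hγ
    refine Subtype.ext (hcent hspan hsimple hnc γ γ.2 fun s hs => ?_)
    have h1 := hθ γ ⟨s, hs⟩ ⟨_, FR.conj_mem_S γ.2 hs⟩ rfl
    rw [hγ] at h1
    exact mul_inv_eq_iff_eq_mul.1 (congrArg Subtype.val (e.injective h1)).symm
  have hsub : ∀ s : F.S, θ ⟨s, F.S_le_Aut s.2⟩ = MulAut.conj (e s) := fun s => by
    refine MulEquiv.ext fun x => ?_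
    obtain ⟨t, rfl⟩ := e.surjective x
    rw [hθ ⟨s, F.S_le_Aut s.2⟩ t (s * t * s⁻¹) rfl, map_mul, map_mul, map_inv]
    rfl
  let ι : G →* MulAut X := (MulAut.congr e₀).toMonoidHom.comp (MulAut.conjNormal (H := T))
  have hι : Function.Injective ι := by
    rw [injective_iff_map_eq_one]
    intro g hg
    have h1 : MulAut.conjNormal (H := T) g = 1 := (MulAut.congr e₀).injective (hg.trans (map_one _).symm)
    have h2 : g ∈ centralizer (T : Set G) := fun t ht => by
      have h3 : g * t * g⁻¹ = t := congrArg (fun x : T => (x : G)) (DFunLike.congr_fun h1 (⟨t, ht⟩ : T))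
      exact (mul_inv_eq_iff_eq_mul.1 h3).symm
    rwa [c.as.cent] at h2
  have hιT : ∀ t : T, ι t = MulAut.conj (e₀ t) := fun t => by
    refine MulEquiv.ext fun x => ?_
    obtain ⟨s, rfl⟩ := e₀.surjective x
    change e₀ (MulAut.conjNormal (t : G) (e₀.symm (e₀ s))) = e₀ t * e₀ s * (e₀ t)⁻¹
    rw [e₀.symm_apply_apply, ← map_mul, ← map_inv, ← map_mul]
    rfl
  have hr : ∀ g, ι g ∈ θ.range := fun g => by
    obtain ⟨γ, hγ, h⟩ := hΓ' _ (hΓ g)
    refine ⟨⟨γ, hγ⟩, MulEquiv.ext fun x => ?_⟩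
    obtain ⟨s, rfl⟩ := e.surjective x
    rw [hθ ⟨γ, hγ⟩ s ⟨_, FR.conj_mem_S hγ s.2⟩ rfl]
    exact h s _ rfl
  let ψ₀ : G →* F.Aut := (MonoidHom.ofInjective hinj).symm.toMonoidHom.comp (ι.codRestrict θ.range hr)
  have hψ₀ : ∀ g, θ (ψ₀ g) = ι g := fun g =>
    congrArg Subtype.val ((MonoidHom.ofInjective hinj).apply_symm_apply ⟨ι g, hr g⟩)
  let ψ : G →* RingAut A := F.Aut.subtype.comp ψ₀
  have hψ : Function.Injective ψ := fun a b h => hι (by rw [← hψ₀, ← hψ₀, Subtype.ext (p := (· ∈ F.Aut)) h])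
  have hψT : ∀ t : T, ψ t = e.symm (e₀ t) := fun t => by
    have h1 : ψ₀ t = ⟨e.symm (e₀ t), F.S_le_Aut (e.symm (e₀ t)).2⟩ :=
      hinj (by rw [hψ₀, hιT, hsub, e.apply_symm_apply])
    exact congrArg Subtype.val h1
  have hS : T.map ψ = F.S := by
    ext s
    constructor
    · rintro ⟨t, ht, rfl⟩
      rw [hψT ⟨t, ht⟩]
      exact Subtype.prop _
    · intro hs
      refine ⟨e₀.symm (e ⟨s, hs⟩), Subtype.prop _, ?_⟩
      rw [hψT, e₀.apply_symm_apply, e.symm_apply_apply]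
  let ε : G ≃* ψ.range := MonoidHom.ofInjective hψ
  have hε : ∀ Y : Subgroup G, (Y.map ψ).subgroupOf ψ.range = Y.map ε.toMonoidHom := fun Y => by
    ext x
    obtain ⟨g, rfl⟩ := ε.surjective x
    constructor
    · rintro ⟨y, hy, h⟩
      exact ⟨y, hy, Subtype.ext h⟩
    · rintro ⟨y, hy, h⟩
      exact ⟨y, hy, congrArg (fun x : ψ.range => (x : RingAut A)) h⟩
  refine ⟨⟨e⟩, ψ.range, H.map ψ, hK, hss, hspan, hS ▸ map_le_range ψ T, ?_, map_le_range ψ H, ?_, hp, ?_⟩
  · rintro _ ⟨g, rfl⟩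
    exact (ψ₀ g).2
  · rw [← hS, hε, hε]
    exact lieCtx_map c ε
  · rw [hε]
    exact fun h => o (hasOwn_of_map ε h)

end transport

section unitary

variable {K V : Type} [Field K] [Finite K] [AddCommGroup V] [Module K V] [Finite V] (h : HF K V)

omit [Finite K] [Finite V] in
/-- central elements are scalars -/
theorem exists_scalar [Nontrivial V] {z : h.EB} (hz : z ∈ Subring.center h.EB) : ∃ c : K, ∀ y, h.ap z y = c • y := by
  obtain ⟨e, h0⟩ := exists_ne (0 : V)
  obtain ⟨x, hx⟩ := h.exists_ne h0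
  have h2 : ∀ y, h.b x e • h.ap z y = h.b (h.ap z x) e • y := fun y => by
    have h3 := congrArg (fun a => h.ap a x) (Subring.mem_center_iff.1 hz (h.eb (h.ro y e)))
    simp only [h.ap_mul, h.ap_eb, h.ro_apply, map_smul] at h3
    exact h3.symm
  exact ⟨(h.b x e)⁻¹ * h.b (h.ap z x) e, fun y => by rw [mul_smul, ← h2, smul_smul, inv_mul_cancel₀ hx, one_smul]⟩

/-- the transvections generate the scalars: `e`, `f` isotropic, every scalar is `b z f` for an isotropic `z` with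
`b e z = 1` -/
theorem cent_of_triple (F : FR h.EB) (hL : F.L = Lmax _) (hε : h.ε = 1) (hτ : ∃ c, h.τ c ≠ c) (hsp : F.Span)
    (hs : IsSimpleGroup F.S) (hn : ¬ IsMulCommutative F.S) {e f : V} (hee : h.b e e = 0) (hff : h.b f f = 0)
    (hfe : h.b f e = 1) (hz : ∀ a : K, ∃ z, h.b z z = 0 ∧ h.b e z = 1 ∧ h.b z f = a) :
    ∀ γ ∈ F.Aut, (∀ s ∈ F.S, γ * s = s * γ) → γ = 1 := by
  have h0 : e ≠ 0 := by
    rintro rfl
    exact zero_ne_one ((h.zero_right f).symm.trans hfe)
  have : Nontrivial V := ⟨e, 0, h0⟩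
  intro γ hγ hc
  refine SB.Cl.eq_one_of_cent hsp hs hn ?_ hc
  obtain ⟨c₀, hc₀⟩ := hτ
  have hμ : c₀ - h.τ c₀ ≠ 0 := fun h1 => hc₀ (sub_eq_zero.1 h1).symm
  -- the transvections
  let N : V → h.EB := fun x => h.eb (h.ro (c₀ • x) x) - star (h.eb (h.ro (c₀ • x) x))
  have hN : ∀ x y, h.ap (N x) y = ((c₀ - h.τ c₀) * h.b y x) • x := fun x y => by
    change h.ap (h.eb (h.ro (c₀ • x) x) - star (h.eb (h.ro (c₀ • x) x))) y = _
    rw [h.ap_sub, SB.Cl.ap_star_ro, h.ap_eb, h.ro_apply, h.smul_left, map_mul, h.swap x y, hε, one_mul, smul_smul,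
      ← sub_smul]
    congr 1
    ring
  have hfix : ∀ x, h.b x x = 0 → γ (N x) = N x := fun x hx =>
    (SB.Cl.nil_ro h F (by rw [h.smul_left, h.smul_right, hx, mul_zero, mul_zero]) hx
      (by rw [h.smul_left, hx, mul_zero]) (Or.inl hL)).fix h.ss hsp hs hn hγ hc
  intro c hc'
  obtain ⟨k, hk⟩ := exists_scalar h hc'
  obtain ⟨z, hzz, hez, hzf⟩ := hz (k / (c₀ - h.τ c₀) ^ 3)
  have h1 : c * N e = N e * N f * N z * N e := h.ap_ext fun y => by
    rw [h.ap_mul, h.ap_mul, h.ap_mul, h.ap_mul, hk, hN, hN, hN, hN, h.smul_left, h.smul_left, h.smul_left, hez, hzf,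
      hfe, smul_smul]
    congr 1
    field_simp
  have h2 : (γ c - c) * N e = 0 := by
    rw [sub_mul, sub_eq_zero]
    conv_lhs => rw [← hfix e hee, ← map_mul, h1, map_mul, map_mul, map_mul, hfix e hee, hfix f hff, hfix z hzz, ← h1]
  obtain ⟨k', hk'⟩ := exists_scalar h (sub_mem (map_cen γ hc') hc')
  have h3 : h.ap ((γ c - c) * N e) f = 0 := by rw [h2]; rfl
  rw [h.ap_mul, hk', hN, hfe, mul_one, smul_smul, smul_eq_zero_iff_left h0, mul_eq_zero_iff_right hμ] at h3
  exact sub_eq_zero.1 (h.ap_ext fun y => by rw [hk', h3, zero_smul]; rfl)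

open Cfsg.Agent.LieClassical.HermBasic in
/-- unitary groups of dimension at least three -/
theorem cent_U {F : Type} [Field F] [Fintype F] {n q : ℕ} (hF : Fintype.card F = q ^ 2) (hn3 : 3 ≤ n)
    (R : FR (unH n hF).EB) (hL : R.L = Lmax _) (hsp : R.Span) (hs : IsSimpleGroup R.S)
    (hn : ¬ IsMulCommutative R.S) : ∀ γ ∈ R.Aut, (∀ s ∈ R.S, γ * s = s * γ) → γ = 1 := by
  have h01 : (⟨0, by omega⟩ : Fin n) ≠ ⟨1, by omega⟩ := by simp
  obtain ⟨e, f, a, b, -, he, hf, hee, hff, hef⟩ := LieClassical.HermGen.exists_hyp_pair hF h01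
  have hfe : hermForm n F q f e = 1 := by rw [herm_swap hF e f, hef, one_pow]
  let i : Fin n := ⟨2, by omega⟩
  have he2 : e i = 0 := by
    rw [he]
    simp [i]
  have hf2 : f i = 0 := by
    rw [hf, Pi.add_apply, Pi.smul_apply, he2]
    simp [i]
  refine cent_of_triple (unH n hF) R hL rfl (exists_not_fixed hF) hsp hs hn hee hff hfe fun t => ?_
  obtain ⟨w, hw⟩ := exists_norm_eq hF (c := -(t + t ^ q)) (by rw [neg_pow_q hF, trace_pow_q hF])
  have h1 : ∀ u : Fin n → F, u i = 0 → hermForm n F q u (Pi.single i w) = 0 := fun u hu => by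
    rw [herm_single_right hF, hu, zero_mul]
  have h2 : ∀ u : Fin n → F, u i = 0 → hermForm n F q (Pi.single i w) u = 0 := fun u hu =>
    herm_eq_zero_swap hF (h1 u hu)
  have h3 : hermForm n F q (Pi.single i w) (Pi.single i w) = -(t + t ^ q) := by
    rw [herm_single_right hF, Pi.single_eq_same, hw]
  have h4 : hermForm n F q e (t • e + f + Pi.single i w) = 1 := by
    rw [herm_add_right hF, herm_add_right hF, herm_smul_right, hee, hef, h1 e he2, mul_zero, zero_add, add_zero]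
  have h5 : hermForm n F q (t • e + f + Pi.single i w) f = t := by
    rw [herm_add_left, herm_add_left, herm_smul_left, hef, hff, h2 f hf2, mul_one, add_zero, add_zero]
  have h6 : hermForm n F q (t • e + f + Pi.single i w) (t • e + f + Pi.single i w) = 0 := by
    rw [herm_add_left, herm_add_left, herm_smul_left, h4, herm_swap hF _ f, h5, herm_add_right hF, herm_add_right hF,
      herm_smul_right, h2 e he2, h2 f hf2, h3]
    ring
  exact ⟨_, h6, h4, h5⟩

end unitary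

end Cfsg.Agent.TH.Cl.Br
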